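import Groth.Agent.QCoh.GodMV
import Groth.Agent.FlatCxLib.Cls

/-!
# Base change of homology from a quasi-isomorphism after flat base change
-/

set_option autoImplicit false
set_option backward.isDefEq.respectTransparency false
set_option backward.isDefEq.respectTransparency.types false
set_option linter.style.haveILetI false

universe u

open CategoryTheory TensorProduct

namespace Groth.Agent.FlatBCQ

open Groth.Agent

variable {A B : Type u} [CommRing A] [CommRing B] [Algebra A B] [Module.Flat A B]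
  {K : CochainComplex (ModuleCat.{u} A) ℕ} {L : CochainComplex (ModuleCat.{u} B) ℕ}

/-- If `B ⊗ K → L` is a quasi-isomorphism, models of the homologies are related by base change. -/
theorem isBaseChange_of_quasiIso (φ : K ⟶ ((ModuleCat.restrictScalars (algebraMap A B)).mapHomologicalComplex _).obj L)
    (n : ℕ) [hq : QuasiIsoAt (QCoh.adjunctHom φ) n]
    {Z N : Type u} [AddCommGroup Z] [Module A Z] [AddCommGroup N] [Module A N]
    {Z' N' : Type u} [AddCommGroup Z'] [Module B Z'] [AddCommGroup N'] [Module A N'] [Module B N'] [IsScalarTower A B N']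
    (a : Z →ₗ[A] K.X n) (ha : ∀ z, (K.d n (n + 1)).hom (a z) = 0)
    (ha' : ∀ y, (K.d n (n + 1)).hom y = 0 → ∃ z, a z = y) (hinj : Function.Injective a)
    (a' : Z' →ₗ[B] L.X n) (hL : ∀ z, (L.d n (n + 1)).hom (a' z) = 0)
    (hL' : ∀ y, (L.d n (n + 1)).hom y = 0 → ∃ z, a' z = y) (hinj' : Function.Injective a')
    (p : Z →ₗ[A] N) (hp : Function.Surjective p)
    (hp0 : ∀ z, p z = 0 ↔ a z ∈ LinearMap.range (K.d ((ComplexShape.up ℕ).prev n) n).hom)
    (p' : Z' →ₗ[B] N') (hp' : Function.Surjective p')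
    (hp0' : ∀ z, p' z = 0 ↔ a' z ∈ LinearMap.range (L.d ((ComplexShape.up ℕ).prev n) n).hom)
    (l : N →ₗ[A] N')
    (hl : ∀ z, ∃ z', a' z' = (show L.X n from φ.f n (a z)) ∧ p' z' = l (p z)) :
    IsBaseChange B l := by
  let ψ := QCoh.adjunctHom φ
  let E := ((QCoh.bcFunctor A B).mapHomologicalComplex (ComplexShape.up ℕ)).obj K
  have hk : (ComplexShape.up ℕ).next n = n + 1 := by simp
  have key : ∀ ζ : B ⊗[A] Z, ∃ z', a' z' = (ψ.f n).hom (show E.X n from a.baseChange B ζ) ∧
      p' z' = l.liftBaseChange B (p.baseChange B ζ) := fun ζ => by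
    induction ζ using TensorProduct.induction_on with
    | zero => exact ⟨0, by simp, by simp⟩
    | tmul b z =>
      obtain ⟨z', h1, h2⟩ := hl z
      refine ⟨b • z', ?_, ?_⟩
      · rw [map_smul, h1]
        exact (QCoh.adjunct_tmul (φ.f n) b (a z)).symm
      · rw [map_smul, h2]
        exact (LinearMap.liftBaseChange_tmul ..).symm
    | add x y hx hy =>
      obtain ⟨x', h1, h2⟩ := hx
      obtain ⟨y', h3, h4⟩ := hy
      refine ⟨x' + y', ?_, by rw [map_add, h2, h4, map_add, map_add]⟩
      rw [map_add, h1, h3, map_add]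
      exact ((ψ.f n).hom.map_add _ _).symm
  have hex : Function.Exact (a.baseChange B) ((K.d n (n + 1)).hom.baseChange B) :=
    Module.Flat.lTensor_exact B (f := a) (g := (K.d n (n + 1)).hom)
      fun y => ⟨fun h => ha' y h, fun ⟨z, hz⟩ => hz ▸ ha z⟩
  have hbij : Function.Bijective (HomologicalComplex.homologyMap ψ n).hom :=
    ConcreteCategory.bijective_of_isIso (HomologicalComplex.homologyMap ψ n)
  have hinjψ := (FlatCxLib.homologyMap_injective_iff ψ rfl hk).1 hbij.1
  have hsurj := (FlatCxLib.homologyMap_surjective_iff ψ rfl hk).1 hbij.2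
  have hinjB : Function.Injective (a.baseChange B) := Module.Flat.lTensor_preserves_injective_linearMap a hinj
  have hpB : Function.Surjective (p.baseChange B) := LinearMap.lTensor_surjective B hp
  have hb : Function.Bijective (l.liftBaseChange B) := by
    refine ⟨(injective_iff_map_eq_zero _).2 fun x hx => ?_, fun y => ?_⟩
    · obtain ⟨ζ, rfl⟩ := hpB x
      obtain ⟨z', h1, h2⟩ := key ζ
      have hr := (hp0' z').1 (h2.trans hx)
      rw [h1] at hr
      obtain ⟨β, hβ⟩ := hinjψ _ ((hex _).2 ⟨ζ, rfl⟩) hr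
      let i := (ComplexShape.up ℕ).prev n
      change ((K.d i n).hom.baseChange B) β = a.baseChange B ζ at hβ
      have hd : ∀ w : B ⊗[A] K.X i, ∃ η, a.baseChange B η = (K.d i n).hom.baseChange B w ∧
          p.baseChange B η = 0 := fun w => by
        induction w using TensorProduct.induction_on with
        | zero => exact ⟨0, by simp, by simp⟩
        | tmul b x =>
          obtain ⟨z, hz⟩ := ha' ((K.d i n).hom x) (congr($(K.d_comp_d i n (n + 1)) x))
          exact ⟨b ⊗ₜ z, by simp [hz], by simp [(hp0 z).2 ⟨x, hz.symm⟩]⟩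
        | add u v hu hv =>
          obtain ⟨η, e1, e2⟩ := hu
          obtain ⟨η', e3, e4⟩ := hv
          exact ⟨η + η', by simp [e1, e3], by simp [e2, e4]⟩
      obtain ⟨η, e1, e2⟩ := hd β
      rw [← hinjB (e1.trans hβ)]
      exact e2
    · obtain ⟨z', rfl⟩ := hp' y
      obtain ⟨x, hx, hr⟩ := hsurj (a' z') (hL z')
      obtain ⟨ζ, hζ⟩ := (hex x).1 hx
      obtain ⟨z'', h1, h2⟩ := key ζ
      refine ⟨p.baseChange B ζ, ?_⟩
      rw [← h2, ← sub_eq_zero, ← map_sub, hp0', map_sub, h1, show (show E.X n from a.baseChange B ζ) = x from hζ]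
      exact hr
  exact IsBaseChange.of_equiv (LinearEquiv.ofBijective (l.liftBaseChange B) hb) fun m => by
    show l.liftBaseChange B (1 ⊗ₜ m) = l m
    simp

end Groth.Agent.FlatBCQ
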