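import Groth.Agent.QCoh.GodCx

/-!
# Composition of the functoriality maps of the Godement resolution
-/

set_option autoImplicit false
set_option backward.isDefEq.respectTransparency false
set_option backward.isDefEq.respectTransparency.types false
set_option linter.style.haveILetI false

universe u

open CategoryTheory AlgebraicGeometry AlgebraicGeometry.Scheme.Modules TopologicalSpace Opposite

namespace Groth.Agent.FlatBCQ

open Groth.Agent

variable {X Y Z : Scheme.{u}} (φ : Y ⟶ X) (ψ : Z ⟶ Y)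

theorem stkMap_comp {M : X.Modules} {N : Y.Modules} {P : Z.Modules} (η : M ⟶ (pushforward φ).obj N)
    (μ : N ⟶ (pushforward ψ).obj P) (z : Z) (m : QCoh.stk M (φ.base (ψ.base z))) :
    QCoh.stkMap (ψ ≫ φ) (η ≫ (pushforward φ).map μ ≫ (pushforwardComp ψ φ).hom.app P) z m =
      QCoh.stkMap ψ μ z (QCoh.stkMap φ η (ψ.base z) m) := by
  obtain ⟨U, hU, s, rfl⟩ := QCoh.exists_germM M m
  rw [QCoh.stkMap_germM φ η (ψ.base z) U hU s]
  refine (QCoh.stkMap_germM (ψ ≫ φ) _ z U hU s).trans ?_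
  exact (QCoh.stkMap_germM ψ μ z (φ ⁻¹ᵁ U) hU _).symm

theorem godMap_comp {M : X.Modules} {N : Y.Modules} {P : Z.Modules} (η : M ⟶ (pushforward φ).obj N)
    (μ : N ⟶ (pushforward ψ).obj P) :
    QCoh.godMap (ψ ≫ φ) (η ≫ (pushforward φ).map μ ≫ (pushforwardComp ψ φ).hom.app P) =
      QCoh.godMap φ η ≫ (pushforward φ).map (QCoh.godMap ψ μ) ≫ (pushforwardComp ψ φ).hom.app (QCoh.God P) := by
  refine Scheme.Modules.hom_ext _ _ fun U => ConcreteCategory.hom_ext _ _ fun s => ?_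
  exact funext fun y => stkMap_comp φ ψ η μ y.1 _

theorem godQMap_comp {M : X.Modules} {N : Y.Modules} {P : Z.Modules} (η : M ⟶ (pushforward φ).obj N)
    (μ : N ⟶ (pushforward ψ).obj P) : ∀ n : ℕ,
    QCoh.godQMap (ψ ≫ φ) (η ≫ (pushforward φ).map μ ≫ (pushforwardComp ψ φ).hom.app P) n =
      QCoh.godQMap φ η n ≫ (pushforward φ).map (QCoh.godQMap ψ μ n) ≫
        (pushforwardComp ψ φ).hom.app (QCoh.godQ P n)
  | 0 => rfl
  | n + 1 => by
    haveI : Epi (QCoh.godπ M n) := (QCoh.godSES_shortExact M n).epi_g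
    rw [← cancel_epi (QCoh.godπ M n), QCoh.godπ_godQMap, godQMap_comp η μ n, godMap_comp,
      ← Category.assoc (QCoh.godπ M n), QCoh.godπ_godQMap]
    refine Scheme.Modules.hom_ext _ _ fun U => ConcreteCategory.hom_ext _ _ fun s => ?_
    exact (congr(($(QCoh.godπ_godQMap ψ μ n)).app (φ ⁻¹ᵁ U) ((QCoh.godMap φ (QCoh.godQMap φ η n)).app U s)) : _).symm

end Groth.Agent.FlatBCQ
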