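import Groth.Agent.FlatBCQ.GodH
import Groth.Agent.FlatBCQ.GodComp
import Groth.Agent.QCoh.RpushModel

/-!
# Sections of the homology of the Godement resolution
-/

set_option autoImplicit false
set_option backward.isDefEq.respectTransparency false
set_option backward.isDefEq.respectTransparency.types false
set_option linter.style.haveILetI false

universe u

open CategoryTheory AlgebraicGeometry AlgebraicGeometry.Scheme.Modules TopologicalSpace Opposite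

namespace Groth.Agent.FlatBCQ

open Groth.Agent

section Congr

variable {X Z : Scheme.{u}}

theorem godQMap_congr {k k' : Z ⟶ X} (hk : k = k') {M : X.Modules} {P : Z.Modules}
    (κ : M ⟶ (pushforward k).obj P) (κ' : M ⟶ (pushforward k').obj P)
    (h : ∀ (U : X.Opens) (s : Γ(M, U)) (hle : k' ⁻¹ᵁ U ≤ k ⁻¹ᵁ U),
      QCoh.secMap k κ hle s = (show Γ(P, k' ⁻¹ᵁ U) from κ'.app U s))
    (n : ℕ) (U : X.Opens) {W : Z.Opens} (h₁ : W ≤ k ⁻¹ᵁ U) (h₂ : W ≤ k' ⁻¹ᵁ U) (z : Γ(QCoh.godQ M n, U)) :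
    QCoh.secMap k (QCoh.godQMap k κ n) h₁ z = QCoh.secMap k' (QCoh.godQMap k' κ' n) h₂ z := by
  subst hk
  obtain rfl : κ = κ' := Scheme.Modules.hom_ext _ _ fun V => ConcreteCategory.hom_ext _ _ fun s =>
    (QCoh.map_id' (M := P) (homOfLE le_rfl) _).symm.trans (h V s le_rfl)
  rfl

end Congr

variable {X S : Scheme.{u}} {f : X ⟶ S} {M : X.Modules} {U : S.Opens}

theorem godQMap_comp_app {Y Z : Scheme.{u}} (φ : Y ⟶ X) (ψ : Z ⟶ Y) {N : Y.Modules} {P : Z.Modules}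
    (η : M ⟶ (pushforward φ).obj N) (μ : N ⟶ (pushforward ψ).obj P) (n : ℕ) {O : X.Opens} {O₁ : Y.Opens}
    {W : Z.Opens} (h₁ : O₁ ≤ φ ⁻¹ᵁ O) (h₂ : W ≤ ψ ⁻¹ᵁ O₁) (h : W ≤ (ψ ≫ φ) ⁻¹ᵁ O) (z : Γ(QCoh.godQ M n, O)) :
    QCoh.secMap ψ (QCoh.godQMap ψ μ n) h₂ (QCoh.secMap φ (QCoh.godQMap φ η n) h₁ z) =
      QCoh.secMap (ψ ≫ φ)
        (QCoh.godQMap (ψ ≫ φ) (η ≫ (pushforward φ).map μ ≫ (pushforwardComp ψ φ).hom.app P) n) h z := by
  rw [godQMap_comp φ ψ η μ n]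
  exact QCoh.secMap_map ψ (QCoh.godQMap ψ μ n) h₁ h₂ _

variable (f M U)

/-- Transfer of sections of the cokernels to the preimage of an open, linearly. -/
noncomputable def transferLin (n : ℕ) :
    letI := QCoh.secModule (QCoh.rhoV f U) (QCoh.godQ (M.restrict (f ⁻¹ᵁ U).ι) n) ⊤
    Γ((pushforward f).obj (QCoh.godQ M n), U) ≃ₗ[Γ(S, U)] Γ(QCoh.godQ (M.restrict (f ⁻¹ᵁ U).ι) n, ⊤) :=
  letI := QCoh.secModule (QCoh.rhoV f U) (QCoh.godQ (M.restrict (f ⁻¹ᵁ U).ι) n) ⊤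
  LinearEquiv.ofBijective
    ({ toFun := fun z => QCoh.transferSec f M U n z
       map_add' := fun z w => QCoh.transferSec_add f M U n z w
       map_smul' := fun r z => QCoh.transferSec_smul f M U n r z } :
      Γ((pushforward f).obj (QCoh.godQ M n), U) →ₗ[Γ(S, U)] Γ(QCoh.godQ (M.restrict (f ⁻¹ᵁ U).ι) n, ⊤))
    (QCoh.bijective_transferSec f M U n)

theorem transferLin_mem_bd_iff (n : ℕ) (z : Γ(QCoh.godQ M n, f ⁻¹ᵁ U)) :
    QCoh.transferSec f M U n z ∈ QCoh.bd (M.restrict (f ⁻¹ᵁ U).ι) n ⊤ ↔ z ∈ QCoh.bd M n (f ⁻¹ᵁ U) := by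
  refine ⟨fun h => ?_, fun h => ?_⟩
  · obtain ⟨z', hz', he⟩ := QCoh.transferSec_bd f M U n _ h
    rwa [(QCoh.bijective_transferSec f M U n).1 he] at hz'
  · cases n with
    | zero =>
      rw [(Submodule.mem_bot _).1 h]
      unfold QCoh.transferSec
      rw [map_zero, QCoh.rs_zero]
      exact zero_mem _
    | succ n =>
      obtain ⟨b, hb⟩ := h
      refine ⟨QCoh.rs (QCoh.God (QCoh.godQ (M.restrict (f ⁻¹ᵁ U).ι) n)) (f ⁻¹ᵁ U).ι_preimage_self.ge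
        ((QCoh.godMap (f ⁻¹ᵁ U).ι (QCoh.godQMap (f ⁻¹ᵁ U).ι
          ((Scheme.Modules.restrictAdjunction (f ⁻¹ᵁ U).ι).unit.app M) n)).app (f ⁻¹ᵁ U) b), ?_⟩
      refine (QCoh.app_rs _ _ _).trans ?_
      unfold QCoh.transferSec
      refine congrArg (QCoh.rs _ _) ?_
      refine ((congr(($(QCoh.godπ_godQMap (f ⁻¹ᵁ U).ι
        ((Scheme.Modules.restrictAdjunction (f ⁻¹ᵁ U).ι).unit.app M) n)).app (f ⁻¹ᵁ U) b) : _).symm).trans ?_
      exact congrArg ((QCoh.godQMap (f ⁻¹ᵁ U).ι _ (n + 1)).app _) hb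

variable {f M U} [QuasiCompact f] [QuasiSeparated f]

theorem phπ_app_surjective (hM : Coh.IsQCoh M) (hU : IsAffineOpen U) (n : ℕ) :
    Function.Surjective ((phπ f M n).app U) := by
  cases n with
  | zero => exact (ConcreteCategory.bijective_of_isIso ((phπ f M 0).app U)).2
  | succ n =>
    obtain ⟨e, he⟩ := exists_modelIso f M n
    rw [← he]
    exact (ConcreteCategory.bijective_of_isIso (e.hom.app U)).2.comp ((QCoh.locRange_rpushModel f hM n).surjective hU)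

theorem phπ_app_eq_zero_iff (hM : Coh.IsQCoh M) (hU : IsAffineOpen U) (n : ℕ) (z : Γ(QCoh.godQ M n, f ⁻¹ᵁ U)) :
    (phπ f M n).app U (show Γ((pushforward f).obj (QCoh.godQ M n), U) from z) = 0 ↔
      z ∈ QCoh.bd M n (f ⁻¹ᵁ U) := by
  cases n with
  | zero =>
    exact (map_eq_zero_iff _ (ConcreteCategory.bijective_of_isIso ((phπ f M 0).app U)).1).trans
      (Submodule.mem_bot (M := Γ(QCoh.godQ M 0, f ⁻¹ᵁ U)) (R := Γ(X, f ⁻¹ᵁ U))).symm
  | succ n =>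
    obtain ⟨e, he⟩ := exists_modelIso f M n
    rw [← he]
    refine (map_eq_zero_iff _ (ConcreteCategory.bijective_of_isIso (e.hom.app U)).1).trans ⟨fun h => ?_, ?_⟩
    · obtain ⟨a, ha⟩ := (QCoh.locRange_rpushModel f hM n).mem_range hU _ h
      exact ⟨a, ha⟩
    · rintro ⟨b, rfl⟩
      exact QCoh.cokernel_π_app_app (α := (pushforward f).map (QCoh.godπ M n)) (U := U) b

section Cycles

variable {Y : Scheme.{u}} {A : Type u} [CommRing A] (ρ : A →+* Coh.Γtop Y) (N : Y.Modules)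

/-- Sections of the cokernels as cycles of the Godement complex. -/
noncomputable def cycLin (n : ℕ) :
    letI := QCoh.secModule ρ (QCoh.godQ N n) ⊤
    Γ(QCoh.godQ N n, ⊤) →ₗ[A] ((QCoh.godCx ρ ⊤ N).X n : ModuleCat.{u} A) :=
  QCoh.appHom ρ (QCoh.toGod (QCoh.godQ N n)) ⊤

theorem cycLin_injective (n : ℕ) : Function.Injective (cycLin ρ N n) :=
  QCoh.toGod_app_injective _ _

theorem cycLin_d (n : ℕ) (z : Γ(QCoh.godQ N n, (⊤ : Y.Opens))) :
    ((QCoh.godCx ρ ⊤ N).d n (n + 1)).hom (cycLin ρ N n z) = 0 := by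
  refine (QCoh.godCx_d_apply ρ ⊤ N n _).trans ?_
  exact (congrArg ((QCoh.toGod (QCoh.godQ N (n + 1))).app ⊤)
    (QCoh.app_g_f (S := QCoh.godSES N n) ⊤ z)).trans (map_zero _)

theorem cycLin_surj (n : ℕ) (y : (QCoh.godCx ρ ⊤ N).X n) (hy : ((QCoh.godCx ρ ⊤ N).d n (n + 1)).hom y = 0) :
    ∃ z, cycLin ρ N n z = y := by
  replace hy : (show Γ(QCoh.God (QCoh.godQ N (n + 1)), ⊤) from (QCoh.godCx ρ ⊤ N).d n (n + 1) y) = 0 := hy
  replace hy := (QCoh.godCx_d_apply ρ ⊤ N n y).symm.trans hy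
  exact QCoh.exists_of_godπ_app_eq_zero n y
    ((QCoh.toGod_app_injective (QCoh.godQ N (n + 1)) ⊤) (hy.trans (map_zero _).symm))

theorem cycLin_mem_range_iff (n : ℕ) (z : Γ(QCoh.godQ N n, (⊤ : Y.Opens))) :
    cycLin ρ N n z ∈ LinearMap.range ((QCoh.godCx ρ ⊤ N).d ((ComplexShape.up ℕ).prev n) n).hom ↔
      z ∈ QCoh.bd N n ⊤ := by
  cases n with
  | zero =>
    rw [(QCoh.godCx ρ ⊤ N).shape _ 0 (by simp)]
    constructor
    · rintro ⟨x, hx⟩
      exact (Submodule.mem_bot _).2 (cycLin_injective ρ N 0 (hx.symm.trans (map_zero _).symm))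
    · intro h
      exact ⟨0, ((map_eq_zero_iff _ (cycLin_injective ρ N 0)).2 ((Submodule.mem_bot _).1 h)).symm⟩
  | succ n =>
    rw [show (ComplexShape.up ℕ).prev (n + 1) = n by simp]
    constructor
    · rintro ⟨x, hx⟩
      exact ⟨x, cycLin_injective ρ N (n + 1) ((QCoh.godCx_d_apply ρ ⊤ N n x).symm.trans hx)⟩
    · rintro ⟨b, hb⟩
      exact ⟨b, (QCoh.godCx_d_apply ρ ⊤ N n b).trans (congrArg ((QCoh.toGod (QCoh.godQ N (n + 1))).app ⊤) hb)⟩

end Cycles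

end Groth.Agent.FlatBCQ
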