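import Groth.Agent.FlatBCQ.BcQ
import Groth.Agent.FlatBCQ.GodSec
import Groth.Agent.FlatBCQ.BCHom
import Groth.Agent.CohBCX.IsoBC
import Groth.Agent.QCoh.FlatBC
import Mathlib.AlgebraicGeometry.Morphisms.Flat

/-!
# Flat base change for the base change morphism of higher direct images
-/

set_option autoImplicit false
set_option backward.isDefEq.respectTransparency false
set_option backward.isDefEq.respectTransparency.types false
set_option linter.style.haveILetI false
set_option maxHeartbeats 2000000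

universe u

open CategoryTheory AlgebraicGeometry AlgebraicGeometry.Scheme.Modules TopologicalSpace Opposite

namespace Groth.Agent.FlatBCQ

open Groth.Agent

section Aux

variable {X X' : Scheme.{u}}

theorem isAffineBC_congr (φ : X' ⟶ X) {A B : Type u} [CommRing A] [CommRing B] [Algebra A B] {ρ r : A →+* Coh.Γtop X}
    {ρ' r' : B →+* Coh.Γtop X'} (h : ρ = r) (h' : ρ' = r')
    {hρ : ∀ a, ρ' (algebraMap A B a) = φ.appTop (ρ a)} {hr : ∀ a, r' (algebraMap A B a) = φ.appTop (r a)}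
    {M : X.Modules} {N : X'.Modules} {η : M ⟶ (pushforward φ).obj N}
    (H : QCoh.IsAffineBC φ ρ ρ' hρ η) : QCoh.IsAffineBC φ r r' hr η := by
  subst h
  subst h'
  exact H

theorem isAffineBC_comp_iso (φ : X' ⟶ X) {A B : Type u} [CommRing A] [CommRing B] [Algebra A B]
    {ρ : A →+* Coh.Γtop X} {ρ' : B →+* Coh.Γtop X'} {hρ : ∀ a, ρ' (algebraMap A B a) = φ.appTop (ρ a)}
    {M : X.Modules} {N N' : X'.Modules} {η : M ⟶ (pushforward φ).obj N} (e : N ≅ N')
    (H : QCoh.IsAffineBC φ ρ ρ' hρ η) : QCoh.IsAffineBC φ ρ ρ' hρ (η ≫ (pushforward φ).map e.hom) := by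
  intro V hV
  letI := QCoh.secModule ρ M V
  letI := QCoh.secModule ρ' N (φ ⁻¹ᵁ V)
  letI := QCoh.secModule (ρ'.comp (algebraMap A B)) N (φ ⁻¹ᵁ V)
  letI := QCoh.secModule ρ' N' (φ ⁻¹ᵁ V)
  letI := QCoh.secModule (ρ'.comp (algebraMap A B)) N' (φ ⁻¹ᵁ V)
  haveI : IsScalarTower A B Γ(N, φ ⁻¹ᵁ V) := .of_algebraMap_smul fun _ _ => rfl
  haveI : IsScalarTower A B Γ(N', φ ⁻¹ᵁ V) := .of_algebraMap_smul fun _ _ => rfl
  let eW : Γ(N, φ ⁻¹ᵁ V) ≃ₗ[B] Γ(N', φ ⁻¹ᵁ V) :=
    LinearEquiv.ofBijective (QCoh.appHom ρ' e.hom (φ ⁻¹ᵁ V))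
      (ConcreteCategory.bijective_of_isIso (e.hom.app (φ ⁻¹ᵁ V)))
  refine IsBaseChange.of_equiv ((H V hV).equiv.trans eW) fun m => ?_
  show eW ((H V hV).equiv (1 ⊗ₜ[A] m)) = _
  rw [IsBaseChange.equiv_tmul, one_smul]
  exact QCoh.map_app_comm e.hom (homOfLE le_rfl) _

/-- The comparison of restrictions along pullback, on sections. -/
theorem pullOnMap_app (g : X' ⟶ X) (U : X.Opens) (U' : X'.Opens) (h : U' ≤ g ⁻¹ᵁ U) (F : X.Modules)
    (O : U.toScheme.Opens) (s : Γ(F, U.ι ''ᵁ O)) :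
    (show Γ((pullback g).obj F, U'.ι ''ᵁ ((g.resLE U U' h) ⁻¹ᵁ O)) from
      ((pullbackPushforwardAdjunction (g.resLE U U' h)).unit.app (F.restrict U.ι) ≫
        (pushforward (g.resLE U U' h)).map (CohPull.pullOnIso g U U' h F).hom).app O
          (show Γ(F.restrict U.ι, O) from s)) = QCoh.pullSec g F (CohBCX.le_resLE g h O) s := by
  let k := g.resLE U U' h
  let W := k ⁻¹ᵁ O
  have hu : ((pullbackPushforwardAdjunction k).unit.app (F.restrict U.ι)).app O
      (show Γ(F.restrict U.ι, O) from s) = QCoh.pullSec k (F.restrict U.ι) le_rfl (show Γ(F.restrict U.ι, O) from s) :=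
    (QCoh.map_id' (M := (pullback k).obj (F.restrict U.ι)) (homOfLE le_rfl) _).symm
  let e1 := (restrictFunctorIsoPullback U.ι).hom.app F
  let e2 := (pullbackComp k U.ι).hom.app F
  let e3 := (pullbackCongr (Scheme.Hom.resLE_comp_ι g h)).hom.app F
  let e4 := (pullbackComp U'.ι g).inv.app F
  let e5 := (restrictFunctorIsoPullback U'.ι).inv.app ((pullback g).obj F)
  refine Eq.trans (show _ = e5.app W (e4.app W (e3.app W (e2.app W (((pullback k).map e1).app W
    (((pullbackPushforwardAdjunction k).unit.app (F.restrict U.ι)).app O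
      (show Γ(F.restrict U.ι, O) from s)))))) from rfl) ?_
  refine (congrArg (fun t => e5.app W (e4.app W (e3.app W (e2.app W
    (((pullback k).map e1).app W t))))) hu).trans ?_
  refine (congrArg (fun t => e5.app W (e4.app W (e3.app W (e2.app W t))))
    ((ExistEasy.pullSec_natural k e1 le_rfl _).trans (congrArg _ (CohBCX.restrictIso_hom_app U.ι F O s)))).trans ?_
  refine (congrArg (fun t => e5.app W (e4.app W (e3.app W t)))
    (ExistEasy.pullSec_comp k U.ι F (CohBCX.le_preimage_image U.ι O) le_rfl s)).trans ?_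
  refine (congrArg (fun t => e5.app W (e4.app W t)) (ExistEasy.pullSec_congr _ F _ s)).trans ?_
  exact CohBCX.pullSec_inv_app g U U' F _ (CohBCX.le_resLE g h O) s

/-- The transfer to open subschemes commutes with pullback. -/
theorem transfer_godQMap (g : X' ⟶ X) (U : X.Opens) (U' : X'.Opens) (h : U' ≤ g ⁻¹ᵁ U) (M : X.Modules) (n : ℕ)
    (hk : (⊤ : U'.toScheme.Opens) ≤ (g.resLE U U' h) ⁻¹ᵁ ⊤) (z : Γ(QCoh.godQ M n, U)) :
    QCoh.secMap (g.resLE U U' h)
        (QCoh.godQMap (g.resLE U U' h) ((pullbackPushforwardAdjunction (g.resLE U U' h)).unit.app (M.restrict U.ι) ≫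
          (pushforward (g.resLE U U' h)).map (CohPull.pullOnIso g U U' h M).hom) n) hk
        (QCoh.secMap U.ι (QCoh.godQMap U.ι ((restrictAdjunction U.ι).unit.app M) n) U.ι_preimage_self.ge z) =
      QCoh.secMap U'.ι (QCoh.godQMap U'.ι ((restrictAdjunction U'.ι).unit.app ((pullback g).obj M)) n)
        U'.ι_preimage_self.ge
        (QCoh.secMap g (QCoh.godQMap g ((pullbackPushforwardAdjunction g).unit.app M) n) h z) := by
  let k := g.resLE U U' h
  let μ := (pullbackPushforwardAdjunction k).unit.app (M.restrict U.ι) ≫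
    (pushforward k).map (CohPull.pullOnIso g U U' h M).hom
  let G := (pullback g).obj M
  have hk' : (⊤ : U'.toScheme.Opens) ≤ (k ≫ U.ι) ⁻¹ᵁ U := fun x _ => (k x).2
  have hk'' : (⊤ : U'.toScheme.Opens) ≤ (U'.ι ≫ g) ⁻¹ᵁ U := fun x _ => h x.2
  refine (godQMap_comp_app U.ι k ((restrictAdjunction U.ι).unit.app M) μ n U.ι_preimage_self.ge hk hk' z).trans ?_
  refine Eq.trans ?_ (godQMap_comp_app g U'.ι ((pullbackPushforwardAdjunction g).unit.app M)
    ((restrictAdjunction U'.ι).unit.app G) n h U'.ι_preimage_self.ge hk'' z).symm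
  refine godQMap_congr (Scheme.Hom.resLE_comp_ι g h) _ _ (fun V s hle => ?_) n U hk' hk'' z
  have hm : (show Γ(G, U'.ι ''ᵁ (k ⁻¹ᵁ (U.ι ⁻¹ᵁ V))) from
      μ.app (U.ι ⁻¹ᵁ V) (((restrictAdjunction U.ι).unit.app M).app V s)) =
      QCoh.pullSec g M ((CohBCX.le_resLE g h _).trans (g.preimage_mono (U.ι.image_preimage_le V))) s := by
    refine (pullOnMap_app g U U' h M (U.ι ⁻¹ᵁ V) (M.presheaf.map (homOfLE (U.ι.image_preimage_le V)).op s)).trans ?_
    show G.presheaf.map (homOfLE _).op (((pullbackPushforwardAdjunction g).unit.app M).app _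
      (M.presheaf.map (homOfLE (U.ι.image_preimage_le V)).op s)) = _
    refine (congrArg (G.presheaf.map (homOfLE _).op)
      (QCoh.map_app_comm ((pullbackPushforwardAdjunction g).unit.app M) _ s)).trans ?_
    exact QCoh.map_map (M := G) _ _ _
  refine (congrArg (G.presheaf.map (homOfLE (U'.ι.image_mono hle)).op) hm).trans ?_
  refine (QCoh.map_map (M := G) _ _ _).trans ?_
  rfl

end Aux

variable {X S X' S' : Scheme.{u}} (f : X ⟶ S) (g : S' ⟶ S) (f' : X' ⟶ S') (g' : X' ⟶ X)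
  (w : g' ≫ f = f' ≫ g) (M : X.Modules)

/-- The base change map on homology. -/
noncomputable def beta (n : ℕ) : (pullback g).obj ((pcx f M).homology n) ⟶
    (pcx f' ((pullback g').obj M)).homology n :=
  ((pullbackPushforwardAdjunction g).homEquiv _ _).symm (psiAdj f g f' g' w M n)

/-- The base change map on classes of sections. -/
theorem beta_pullSec_phπ (n : ℕ) (U : S.Opens) (W : S'.Opens) (hle : W ≤ g ⁻¹ᵁ U)
    (hO : f' ⁻¹ᵁ W ≤ g' ⁻¹ᵁ (f ⁻¹ᵁ U)) (z : Γ(QCoh.godQ M n, f ⁻¹ᵁ U)) :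
    (beta f g f' g' w M n).app W (QCoh.pullSec g ((pcx f M).homology n) hle ((phπ f M n).app U z)) =
      (phπ f' ((pullback g').obj M) n).app W
        (QCoh.secMap g' (QCoh.godQMap g' ((pullbackPushforwardAdjunction g').unit.app M) n) hO z) := by
  let β := beta f g f' g' w M n
  let Q' := QCoh.godQ ((pullback g').obj M) n
  have h1 : (pullbackPushforwardAdjunction g).unit.app _ ≫ (pushforward g).map β = psiAdj f g f' g' w M n :=
    ((pullbackPushforwardAdjunction g).homEquiv_unit _ _ β).symm.trans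
      (Equiv.apply_symm_apply _ (psiAdj f g f' g' w M n))
  refine (QCoh.map_app_comm β (homOfLE hle) _).trans ?_
  refine (congrArg (QCoh.rs _ hle) ((congrArg (fun k => Scheme.Modules.Hom.app k U ((phπ f M n).app U z)) h1).trans
    (congrArg (fun k => Scheme.Modules.Hom.app k U z) (phπ_psiAdj f g f' g' w M n)))).trans ?_
  refine Eq.trans (QCoh.app_rs (phπ f' ((pullback g').obj M) n) hle _).symm ?_
  refine congrArg ((phπ f' ((pullback g').obj M) n).app W) ?_
  refine (congrArg (Q'.presheaf.map (homOfLE (f'.preimage_mono hle)).op) (?_ : _ =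
    Q'.presheaf.map (homOfLE (CohCmp.sqLE f g f' g' w U)).op
      ((QCoh.godQMap g' ((pullbackPushforwardAdjunction g').unit.app M) n).app (f ⁻¹ᵁ U) z))).trans
    (QCoh.map_map (M := Q') _ _ _)
  simp [sqIso]
  rfl

variable [QuasiCompact f] [QuasiSeparated f]

/-- Flat base change over affine opens. -/
theorem bijective_beta_app (h : IsPullback g' f' f g) [Flat g] (hM : Coh.IsQCoh M) (n : ℕ)
    (hH : Coh.IsQCoh ((pcx f M).homology n)) {U : S.Opens} (hU : IsAffineOpen U) {W : S'.Opens} (hW : IsAffineOpen W)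
    (hle : W ≤ g ⁻¹ᵁ U) : Function.Bijective ((beta f g f' g' h.w M n).app W) := by
  haveI : QuasiCompact f' := MorphismProperty.of_isPullback h inferInstance
  haveI : QuasiSeparated f' := MorphismProperty.of_isPullback h inferInstance
  let O : X.Opens := f ⁻¹ᵁ U
  let O' : X'.Opens := f' ⁻¹ᵁ W
  have hle' : O' ≤ g' ⁻¹ᵁ O := (f'.preimage_mono hle).trans (CohCmp.sqLE f g f' g' h.w U)
  let ψ := g.appLE U W hle
  letI : Algebra Γ(S, U) Γ(S', W) := ψ.hom.toAlgebra
  haveI : Module.Flat Γ(S, U) Γ(S', W) := g.flat_appLE hU hW hle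
  let qA := QCoh.overSpec f hU
  let qB := QCoh.overSpec f' hW
  let k := g'.resLE O O' hle'
  have hk : IsPullback k qB qA (Spec.map (CommRingCat.ofHom (algebraMap Γ(S, U) Γ(S', W)))) :=
    CohBCX.isPullback_resLE h hU hW hle hle'
  haveI : IsAffineHom k := MorphismProperty.of_isPullback hk.flip inferInstance
  haveI : CompactSpace (O : Scheme.{u}) := isCompact_iff_compactSpace.1 (f.isCompact_preimage hU.isCompact)
  haveI : QuasiSeparatedSpace (O : Scheme.{u}) :=
    (isQuasiSeparated_iff_quasiSeparatedSpace _ O.2).1 (f.isQuasiSeparated_preimage hU.isQuasiSeparated)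
  let ρA := QCoh.rhoV f U
  let ρB := QCoh.rhoV f' W
  have hρ : ∀ a, ρB (algebraMap Γ(S, U) Γ(S', W) a) = k.appTop (ρA a) := fun a => by
    have e := QCoh.toGlobal_comm qA qB k hk.w a
    rwa [QCoh.toGlobal_overSpec f hU, QCoh.toGlobal_overSpec f' hW] at e
  let M₀ := M.restrict O.ι
  let M₀' := ((pullback g').obj M).restrict O'.ι
  let μ : M₀ ⟶ (pushforward k).obj M₀' :=
    (pullbackPushforwardAdjunction k).unit.app M₀ ≫ (pushforward k).map (CohPull.pullOnIso g' O O' hle' M).hom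
  have hM₀ : Coh.IsQCoh M₀ := QCoh.isQCoh_restrict O.ι hM
  have hG : Coh.IsQCoh ((pullback g').obj M) := QCoh.isQCoh_pullback g' hM
  have hM₀' : Coh.IsQCoh M₀' := QCoh.isQCoh_restrict O'.ι hG
  have hbc : QCoh.IsAffineBC k ρA ρB hρ μ :=
    isAffineBC_congr k (QCoh.toGlobal_overSpec f hU) (QCoh.toGlobal_overSpec f' hW)
      (isAffineBC_comp_iso k (CohPull.pullOnIso g' O O' hle' M) (QCoh.isAffineBC_of_isPullback hk hM₀))
  have hq : QuasiIso (QCoh.godPsi ρA M₀ k μ ρB hρ ⊤) := by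
    obtain ⟨s, hs, hcov⟩ := isCompact_iff_finite_and_eq_biUnion_affineOpens.mp
      (show IsCompact ((⊤ : O.toScheme.Opens) : Set (O : Scheme.{u})) from isCompact_univ)
    let Us : Fin hs.toFinset.card → O.toScheme.Opens := fun i => (hs.toFinset.equivFin.symm i).1.1
    have hUs : (⨆ i, Us i) = ⊤ := by
      rw [hcov]
      refine le_antisymm (iSup_le fun i => ?_) (iSup₂_le fun V hV => ?_)
      · exact le_iSup₂ (f := fun (V : O.toScheme.affineOpens) (_ : V ∈ s) => V.1) _
          (hs.mem_toFinset.1 (hs.toFinset.equivFin.symm i).2)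
      · refine le_trans ?_ (le_iSup Us (hs.toFinset.equivFin ⟨V, hs.mem_toFinset.2 hV⟩))
        simp [Us]
    rw [← hUs]
    exact QCoh.quasiIso_godPsi_qc k ρA ρB hρ μ hM₀ hM₀' hbc _ Us fun i => (hs.toFinset.equivFin.symm i).1.2
  haveI : QuasiIsoAt (QCoh.adjunctHom (QCoh.godCxMap k μ ρA ρB hρ (le_rfl : k ⁻¹ᵁ (⊤ : O.toScheme.Opens) ≤ _))) n :=
    hq.quasiIsoAt n
  -- the models
  let H := (pcx f M).homology n
  let H' := (pcx f' ((pullback g').obj M)).homology n
  letI := QCoh.secModule ρA (QCoh.godQ M₀ n) ⊤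
  letI := QCoh.secModule ρB (QCoh.godQ M₀' n) (k ⁻¹ᵁ ⊤)
  letI := QCoh.secModule ρB (QCoh.godQ M₀' n) ⊤
  letI : Module Γ(S, U) Γ(H', W) := Module.compHom _ (algebraMap Γ(S, U) Γ(S', W))
  haveI : IsScalarTower Γ(S, U) Γ(S', W) Γ(H', W) := .of_algebraMap_smul fun _ _ => rfl
  let P := (pullback g).obj H
  letI : Module Γ(S, U) Γ(P, W) := Module.compHom _ (algebraMap Γ(S, U) Γ(S', W))
  haveI : IsScalarTower Γ(S, U) Γ(S', W) Γ(P, W) := .of_algebraMap_smul fun _ _ => rfl
  let l₀ : Γ(H, U) →ₗ[Γ(S, U)] Γ(P, W) :=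
    { toFun := QCoh.pullSec g H hle
      map_add' := QCoh.pullSec_add g H hle
      map_smul' := fun r x => QCoh.pullSec_smul g H hle r x }
  have hl₀ : IsBaseChange Γ(S', W) l₀ := QCoh.isBaseChange_pullback hU g hW hH hle (fun _ => rfl) l₀ fun _ => rfl
  let bW : Γ(P, W) →ₗ[Γ(S', W)] Γ(H', W) := QCoh.appLin (beta f g f' g' h.w M n) W
  let l : Γ(H, U) →ₗ[Γ(S, U)] Γ(H', W) := (bW.restrictScalars Γ(S, U)).comp l₀
  let τ := transferLin f M U n
  let τ' := transferLin f' ((pullback g').obj M) W n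
  let p := (QCoh.appLin (phπ f M n) U).comp τ.symm.toLinearMap
  let p' := (QCoh.appLin (phπ f' ((pullback g').obj M) n) W).comp τ'.symm.toLinearMap
  have hl : IsBaseChange Γ(S', W) l := by
    refine isBaseChange_of_quasiIso
      (QCoh.godCxMap k μ ρA ρB hρ (le_rfl : k ⁻¹ᵁ (⊤ : O.toScheme.Opens) ≤ _)) n
      (cycLin ρA M₀ n) (cycLin_d ρA M₀ n) (cycLin_surj ρA M₀ n) (cycLin_injective ρA M₀ n)
      (cycLin ρB M₀' n) (cycLin_d ρB M₀' n) (cycLin_surj ρB M₀' n) (cycLin_injective ρB M₀' n)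
      p ((phπ_app_surjective hM hU n).comp τ.symm.surjective) (fun z => ?_)
      p' ((phπ_app_surjective hG hW n).comp τ'.symm.surjective) (fun z => ?_) l (fun z => ?_)
    · rw [cycLin_mem_range_iff]
      obtain ⟨z₀, rfl⟩ := τ.surjective z
      rw [show p (τ z₀) = (phπ f M n).app U z₀ from congrArg ((phπ f M n).app U) (τ.symm_apply_apply z₀)]
      exact (phπ_app_eq_zero_iff hM hU n z₀).trans (transferLin_mem_bd_iff f M U n z₀).symm
    · refine Iff.trans ?_ (cycLin_mem_range_iff ρB M₀' n z).symm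
      obtain ⟨z₀, rfl⟩ := τ'.surjective z
      rw [show p' (τ' z₀) = (phπ f' ((pullback g').obj M) n).app W z₀ from
        congrArg ((phπ f' ((pullback g').obj M) n).app W) (τ'.symm_apply_apply z₀)]
      exact (phπ_app_eq_zero_iff hG hW n z₀).trans (transferLin_mem_bd_iff f' _ W n z₀).symm
    · obtain ⟨z₀, rfl⟩ := τ.surjective z
      let z₁ : Γ((pushforward f').obj (QCoh.godQ ((pullback g').obj M) n), W) :=
        QCoh.secMap g' (QCoh.godQMap g' ((pullbackPushforwardAdjunction g').unit.app M) n) hle' z₀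
      refine ⟨τ' z₁, ?_, ?_⟩
      · refine Eq.trans ?_ (congrArg (fun t => t)
          (Eq.symm (?_ : QCoh.secMap k (QCoh.godMap k (QCoh.godQMap k μ n)) le_rfl
              ((QCoh.toGod (QCoh.godQ M₀ n)).app ⊤ (τ z₀)) =
            (QCoh.toGod (QCoh.godQ M₀' n)).app (k ⁻¹ᵁ ⊤)
              (QCoh.secMap k (QCoh.godQMap k μ n) le_rfl (τ z₀)))))
        · exact congrArg ((QCoh.toGod (QCoh.godQ M₀' n)).app ⊤)
            (transfer_godQMap g' O O' hle' M n le_rfl z₀).symm
        · unfold QCoh.secMap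
          rw [QCoh.map_app_comm]
          exact congrArg _ (congrArg (fun t => t.app ⊤ (τ z₀)) (QCoh.toGod_godMap k (QCoh.godQMap k μ n)))
      · refine (congrArg ((phπ f' ((pullback g').obj M) n).app W) (τ'.symm_apply_apply z₁)).trans ?_
        refine (beta_pullSec_phπ f g f' g' h.w M n U W hle hle' z₀).symm.trans ?_
        exact congrArg (fun t => bW (QCoh.pullSec g H hle ((phπ f M n).app U t))) (τ.symm_apply_apply z₀).symm
  have hb : bW = (hl₀.equiv.symm.trans hl.equiv).toLinearMap := hl₀.algHom_ext _ _ fun m => by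
    show bW (l₀ m) = hl.equiv (hl₀.equiv.symm (l₀ m))
    rw [hl₀.equiv_symm_apply]
    exact ((hl.equiv_tmul 1 _).trans (one_smul _ _)).symm
  have : Function.Bijective bW := by rw [hb]; exact (hl₀.equiv.symm.trans hl.equiv).bijective
  exact this

/-- Flat base change: the base change morphism is an isomorphism. -/
theorem isIso_bcQ (h : IsPullback g' f' f g) [Flat g] [HasInjectiveResolutions X.Modules]
    [HasInjectiveResolutions X'.Modules] [Limits.PreservesFiniteLimits (pullback g')] (hM : Coh.IsQCoh M) (n : ℕ) :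
    IsIso (CohBC.bcQ f g f' g' h.w n M) := by
  haveI : QuasiCompact f' := MorphismProperty.of_isPullback h inferInstance
  haveI : QuasiSeparated f' := MorphismProperty.of_isPullback h inferInstance
  obtain ⟨a, a', ha⟩ := exists_bcQAdj_eq f g f' g' h.w M n
  have hH : Coh.IsQCoh ((pcx f M).homology n) := (QCoh.isQCoh_iff_iso a).2 (QCoh.isQCoh_Rpush f hM n)
  haveI : IsIso (beta f g f' g' h.w M n) := by
    refine QCoh.isIso_of_isBasis _ (B := {W | IsAffineOpen W ∧ ∃ U : S.Opens, IsAffineOpen U ∧ W ≤ g ⁻¹ᵁ U}) ?_ ?_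
    · refine Opens.isBasis_iff_nbhd.2 fun {V} x hx => ?_
      obtain ⟨_, ⟨U, hU, rfl⟩, hxU, -⟩ :=
        S.isBasis_affineOpens.exists_subset_of_mem_open (Set.mem_univ (g x)) isOpen_univ
      obtain ⟨_, ⟨W, hW, rfl⟩, hxW, hWle⟩ := S'.isBasis_affineOpens.exists_subset_of_mem_open
        (show x ∈ V ⊓ g ⁻¹ᵁ U from ⟨hx, hxU⟩) (V ⊓ g ⁻¹ᵁ U).isOpen
      exact ⟨W, ⟨hW, U, hU, fun y hy => (hWle hy).2⟩, hxW, fun y hy => (hWle hy).1⟩
    · rintro W ⟨hW, U, hU, hle⟩
      exact bijective_beta_app f g f' g' M h hM n hH hU hW hle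
  have e : CohBC.bcQ f g f' g' h.w n M = (pullback g).map a.inv ≫ beta f g f' g' h.w M n ≫ a'.hom := by
    apply ((pullbackPushforwardAdjunction g).homEquiv _ _).injective
    rw [Adjunction.homEquiv_naturality_left, Adjunction.homEquiv_naturality_right]
    refine (Equiv.apply_symm_apply _ (CohBC.bcQAdj f g f' g' h.w n M)).trans ?_
    unfold beta
    rw [Equiv.apply_symm_apply, ← ha, Iso.inv_hom_id_assoc]
  rw [e]
  infer_instance

end Groth.Agent.FlatBCQ
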