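import Groth.Agent.H9Misc.AcyclicUnit
import Mathlib.Algebra.Homology.Embedding.ExtendHomology
import Mathlib.CategoryTheory.Abelian.Injective.Extend

/-!
# Functors applied to quasi-isomorphisms between complexes of acyclic objects, in degrees `≥ 0`
-/

set_option autoImplicit false
set_option backward.isDefEq.respectTransparency false
set_option linter.style.haveILetI false

universe w v v' u u'

open CategoryTheory Category Limits HomologicalComplex

namespace Groth.Agent.FlatBCQ

open Groth.Agent.TriCat

variable {A : Type u} [Category.{v} A] [Abelian A] {B : Type u'} [Category.{v'} B] [Abelian B]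
  (F : A ⥤ B) [F.Additive]

local notation "e" => ComplexShape.embeddingUpNat

open Classical in
/-- Applying a functor commutes with extension by zero, in each degree. -/
noncomputable def mapExtendXIso (K : CochainComplex A ℕ) (n : ℤ) :
    ((F.mapHomologicalComplex _).obj (K.extend e)).X n ≅
      (((F.mapHomologicalComplex _).obj K).extend e).X n :=
  if h : ∃ k : ℕ, (e).f k = n then
    F.mapIso (K.extendXIso e h.choose_spec) ≪≫
      (((F.mapHomologicalComplex _).obj K).extendXIso e h.choose_spec).symm
  else
    (F.map_isZero (K.isZero_extend_X e n fun k hk => h ⟨k, hk⟩)).iso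
      (((F.mapHomologicalComplex _).obj K).isZero_extend_X e n fun k hk => h ⟨k, hk⟩)

theorem mapExtendXIso_hom (K : CochainComplex A ℕ) {k : ℕ} {n : ℤ} (h : (e).f k = n) :
    (mapExtendXIso F K n).hom = F.map (K.extendXIso e h).hom ≫
      (((F.mapHomologicalComplex _).obj K).extendXIso e h).inv := by
  unfold mapExtendXIso
  rw [dif_pos ⟨k, h⟩]
  have hk : (⟨k, h⟩ : ∃ k : ℕ, (e).f k = n).choose = k :=
    (e).injective_f ((⟨k, h⟩ : ∃ k : ℕ, (e).f k = n).choose_spec.trans h.symm)
  have key : ∀ (k' : ℕ) (s : (e).f k' = n), k' = k →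
      (F.mapIso (K.extendXIso e s) ≪≫ (((F.mapHomologicalComplex _).obj K).extendXIso e s).symm).hom =
        F.map (K.extendXIso e h).hom ≫ (((F.mapHomologicalComplex _).obj K).extendXIso e h).inv := by
    rintro k' s rfl
    rfl
  exact key _ _ hk

/-- Applying a functor commutes with extension by zero. -/
noncomputable def mapExtendIso (K : CochainComplex A ℕ) :
    (F.mapHomologicalComplex _).obj (K.extend e) ≅ ((F.mapHomologicalComplex _).obj K).extend e :=
  Hom.isoOfComponents (mapExtendXIso F K) fun i j hij => by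
    obtain rfl : i + 1 = j := hij
    by_cases hi : ∃ k : ℕ, (e).f k = i
    · obtain ⟨k, rfl⟩ := hi
      have hj : (e).f (k + 1) = (e).f k + 1 := by simp [ComplexShape.embeddingUpNat]
      rw [mapExtendXIso_hom F K rfl, mapExtendXIso_hom F K hj, extend_d_eq _ e rfl hj]
      simp only [Functor.mapHomologicalComplex_obj_d, Category.assoc, Iso.inv_hom_id_assoc, ← F.map_comp_assoc, Iso.inv_hom_id, Category.comp_id, extend_d_eq _ e rfl hj]
    · exact (F.map_isZero (K.isZero_extend_X e i fun k hk => hi ⟨k, hk⟩)).eq_of_src _ _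

theorem map_extendMap {K L : CochainComplex A ℕ} (f : K ⟶ L) :
    (F.mapHomologicalComplex _).map (extendMap f e) ≫ (mapExtendIso F L).hom =
      (mapExtendIso F K).hom ≫ extendMap ((F.mapHomologicalComplex _).map f) e := by
  ext n
  by_cases hn : ∃ k : ℕ, (e).f k = n
  · obtain ⟨k, rfl⟩ := hn
    simp only [mapExtendIso, HomologicalComplex.comp_f, Hom.isoOfComponents_hom_f, mapExtendXIso_hom F _ rfl, extendMap_f _ e rfl, Functor.mapHomologicalComplex_map_f, Category.assoc, Iso.inv_hom_id_assoc, ← F.map_comp_assoc, Iso.inv_hom_id, Category.comp_id]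
  · exact (F.map_isZero (K.isZero_extend_X e n fun k hk => hn ⟨k, hk⟩)).eq_of_src _ _

variable [EnoughInjectives A] [PreservesFiniteLimits F]

/-- A left exact functor sends a quasi-isomorphism between complexes of acyclic objects to a quasi-isomorphism. -/
theorem quasiIso_map_of_acyclic {K L : CochainComplex A ℕ} (f : K ⟶ L) [QuasiIso f]
    (hK : ∀ n, IsRightAcyclic F (K.X n)) (hL : ∀ n, IsRightAcyclic F (L.X n)) :
    QuasiIso ((F.mapHomologicalComplex _).map f) := by
  let := HasDerivedCategory.standard A
  let := HasDerivedCategory.standard B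
  have hX : ∀ (M : CochainComplex A ℕ), (∀ n, IsRightAcyclic F (M.X n)) →
      ∀ j : ℤ, IsRightAcyclic F ((M.extend e).X j) := fun M hM j i hi => by
    by_cases hj : ∃ k : ℕ, (e).f k = j
    · obtain ⟨k, rfl⟩ := hj
      exact (hM k i hi).of_iso ((F.rightDerived i).mapIso (M.extendXIso e rfl))
    · exact (F.rightDerived i).map_isZero (M.isZero_extend_X e j fun k hk => hj ⟨k, hk⟩)
  let f' := extendMap f e
  haveI : IsIso ((F.mapHomotopyCategory (ComplexShape.up ℤ) ⋙ DerivedCategory.Qh).map
      ((HomotopyCategory.quotient A (ComplexShape.up ℤ)).map f')) :=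
    H9Misc.AcyclicUnit.isIso_map_of_quasiIso F f' 0 (hX K hK) (hX L hL)
  let α : HomotopyCategory.quotient A (ComplexShape.up ℤ) ⋙ (F.mapHomotopyCategory _ ⋙ DerivedCategory.Qh) ≅
      F.mapHomologicalComplex (ComplexShape.up ℤ) ⋙ DerivedCategory.Q :=
    (Functor.associator _ _ _).symm ≪≫ Functor.isoWhiskerRight (F.mapHomotopyCategoryFactors _) _ ≪≫
      Functor.associator _ _ _ ≪≫ Functor.isoWhiskerLeft _ (DerivedCategory.quotientCompQhIso B)
  have h1 : IsIso (DerivedCategory.Q.map ((F.mapHomologicalComplex (ComplexShape.up ℤ)).map f')) :=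
    (NatIso.isIso_map_iff α f').1 (show IsIso ((F.mapHomotopyCategory (ComplexShape.up ℤ) ⋙ DerivedCategory.Qh).map
      ((HomotopyCategory.quotient A (ComplexShape.up ℤ)).map f')) from inferInstance)
  haveI := (DerivedCategory.isIso_Q_map_iff_quasiIso B _).1 h1
  rw [← quasiIso_extendMap_iff _ e]
  have h2 : extendMap ((F.mapHomologicalComplex _).map f) e =
      (mapExtendIso F K).inv ≫ (F.mapHomologicalComplex _).map f' ≫ (mapExtendIso F L).hom := by
    rw [map_extendMap, Iso.inv_hom_id_assoc]
  rw [h2]
  infer_instance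

end Groth.Agent.FlatBCQ
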