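import Groth.Agent.FlatBCQ.GodH
import Groth.Prelude.Def_CohBC2

/-!
# The base change morphism through the Godement resolutions
-/

set_option autoImplicit false
set_option backward.isDefEq.respectTransparency false
set_option backward.isDefEq.respectTransparency.types false
set_option linter.style.haveILetI false
set_option maxHeartbeats 1000000

universe u

open CategoryTheory AlgebraicGeometry AlgebraicGeometry.Scheme.Modules HomologicalComplex

namespace Groth.Agent.FlatBCQ

open Groth.Agent

variable {X S X' S' : Scheme.{u}} (f : X ⟶ S) (g : S' ⟶ S) (f' : X' ⟶ S') (g' : X' ⟶ X)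
  (w : g' ≫ f = f' ≫ g) (M : X.Modules)

/-- The identification `f_* g'_* ≅ g_* f'_*`. -/
noncomputable abbrev sqIso : pushforward g' ⋙ pushforward f ≅ pushforward f' ⋙ pushforward g :=
  pushforwardComp g' f ≪≫ pushforwardCongr w ≪≫ (pushforwardComp f' g).symm

/-- Pullback on the direct images of the Godement resolutions. -/
noncomputable def theta : pcx f M ⟶
    ((pushforward g).mapHomologicalComplex _).obj (pcx f' ((pullback g').obj M)) :=
  ((pushforward f).mapHomologicalComplex _).map (gmap g' ((pullbackPushforwardAdjunction g').unit.app M)) ≫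
    (NatTrans.mapHomologicalComplex (sqIso f g f' g' w).hom _).app (gcx ((pullback g').obj M))

/-- The base change map on homology, in adjoint form. -/
noncomputable def psiAdj (n : ℕ) : (pcx f M).homology n ⟶
    (pushforward g).obj ((pcx f' ((pullback g').obj M)).homology n) :=
  haveI := preservesFiniteLimits_pushforward g
  homologyMap (theta f g f' g' w M) n ≫ RDer.homologyComparison (pushforward g) (pcx f' ((pullback g').obj M)) n

theorem phπ_psiAdj (n : ℕ) :
    phπ f M n ≫ psiAdj f g f' g' w M n =
      (pushforward f).map (QCoh.godQMap g' ((pullbackPushforwardAdjunction g').unit.app M) n) ≫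
        (sqIso f g f' g' w).hom.app (QCoh.godQ ((pullback g').obj M) n) ≫
          (pushforward g).map (phπ f' ((pullback g').obj M) n) := by
  haveI := preservesFiniteLimits_pushforward g
  let G := (pullback g').obj M
  let η := (pullbackPushforwardAdjunction g').unit.app M
  unfold psiAdj phπ
  rw [Category.assoc, homologyπ_naturality_assoc, RDer.homologyπ_homologyComparison, Functor.map_comp]
  suffices h : pcyc f M n ≫ cyclesMap (theta f g f' g' w M) n ≫
      RDer.cyclesComparison (pushforward g) (pcx f' G) n =
      (pushforward f).map (QCoh.godQMap g' η n) ≫ (sqIso f g f' g' w).hom.app (QCoh.godQ G n) ≫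
        (pushforward g).map (pcyc f' G n) by
    rw [reassoc_of% h]
  haveI : Mono ((pushforward g).map ((pcx f' G).iCycles n)) := inferInstance
  rw [← cancel_mono ((pushforward g).map ((pcx f' G).iCycles n))]
  simp only [Category.assoc, RDer.cyclesComparison_i, cyclesMap_i, ← Functor.map_comp, pcyc_i]
  refine ((congrArg (pcyc f M n ≫ ·) (cyclesMap_i (theta f g f' g' w M) n)).trans
    ((Category.assoc _ _ _).symm.trans (congrArg (· ≫ (theta f g f' g' w M).f n) (pcyc_i f M n)))).trans ?_
  refine Eq.trans ?_ (congrArg ((pushforward f).map (QCoh.godQMap g' η n) ≫ ·)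
    ((sqIso f g f' g' w).hom.naturality (QCoh.toGod (QCoh.godQ G n))))
  show (pushforward f).map (QCoh.toGod (QCoh.godQ M n)) ≫ (pushforward f).map (QCoh.godMap g' (QCoh.godQMap g' η n)) ≫
      (sqIso f g f' g' w).hom.app _ = (pushforward f).map (QCoh.godQMap g' η n) ≫
    (pushforward f).map ((pushforward g').map (QCoh.toGod (QCoh.godQ G n))) ≫ (sqIso f g f' g' w).hom.app _
  rw [← (pushforward f).map_comp_assoc, ← (pushforward f).map_comp_assoc, QCoh.toGod_godMap]

variable [HasInjectiveResolutions X.Modules] [HasInjectiveResolutions X'.Modules]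
  [Limits.PreservesFiniteLimits (pullback g')]

/-- The base change morphism is the one induced by the Godement resolutions. -/
theorem exists_bcQAdj_eq (n : ℕ) :
    ∃ (a : (pcx f M).homology n ≅ (Coh.Rpush f n).obj M)
      (a' : (pcx f' ((pullback g').obj M)).homology n ≅ (Coh.Rpush f' n).obj ((pullback g').obj M)),
      a.hom ≫ CohBC.bcQAdj f g f' g' w n M = psiAdj f g f' g' w M n ≫ (pushforward g).map a'.hom := by
  haveI := preservesFiniteLimits_pushforward g
  let G := (pullback g').obj M
  let η := (pullbackPushforwardAdjunction g').unit.app M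
  let F := pushforward f
  let F' := pushforward f'
  let P := pushforward g'
  obtain ⟨c, hc, hci⟩ := exists_iso_Rpush f M
  obtain ⟨c', hc', hci'⟩ := exists_iso_Rpush f' G
  haveI := hci n
  haveI := hci' n
  let I := injectiveResolution M
  let K := injectiveResolution G
  let J := injectiveResolution (P.obj G)
  let r := InjectiveResolution.desc η J I
  have hr : I.ι.f 0 ≫ r.f 0 = η ≫ J.ι.f 0 := InjectiveResolution.desc_commutes_zero _ _ _
  let PK := (P.mapHomologicalComplex _).obj K.cocomplex
  let d := RDer.descToInjectives (𝟙 (P.obj G)) J.cocomplex J.ι PK (RDer.mapAug P K.ι)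
  have hd : J.ι.f 0 ≫ d.f 0 = P.map (K.ι.f 0) := by
    refine (RDer.ι_descToInjectives_f_zero _ _ _ _ _).trans ?_
    simp [RDer.mapAug]
  have hhom : ∀ k, Injective (PK.X k) := fun k => inferInstance
  obtain ⟨H⟩ := nonempty_homotopy (gcx M) (gaug M) PK (c ≫ r ≫ d)
    (gmap g' η ≫ (P.mapHomologicalComplex _).map c') (by
      simp only [HomologicalComplex.comp_f, Functor.mapHomologicalComplex_map_f]
      rw [reassoc_of% hc, reassoc_of% hr, hd, reassoc_of% (gmap_aug g' η), ← P.map_comp, hc'])
  let a := (asIso (homologyMap ((F.mapHomologicalComplex _).map c) n)) ≪≫ (I.isoRightDerivedObj F n).symm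
  let a' := (asIso (homologyMap ((F'.mapHomologicalComplex _).map c') n)) ≪≫ (K.isoRightDerivedObj F' n).symm
  refine ⟨a, a', ?_⟩
  let e := (sqIso f g f' g' w)
  let eK := (NatTrans.mapHomologicalComplex e.hom (ComplexShape.up ℕ)).app K.cocomplex
  have key : CohBC.bcQAdj f g f' g' w n M = (I.isoRightDerivedObj F n).hom ≫
      homologyMap ((F.mapHomologicalComplex _).map (r ≫ d) ≫ eK) n ≫
      RDer.homologyComparison (pushforward g) ((F'.mapHomologicalComplex _).obj K.cocomplex) n ≫
      (pushforward g).map (K.isoRightDerivedObj F' n).inv := by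
    have h1 : (Coh.Rpush f n).map η = (I.isoRightDerivedObj F n).hom ≫
        homologyMap ((F.mapHomologicalComplex _).map r) n ≫ (J.isoRightDerivedObj F n).inv := by
      rw [← Category.assoc]
      exact (Iso.eq_comp_inv _).2 (InjectiveResolution.isoRightDerivedObj_hom_naturality η I J r hr F n)
    have h3 : (CohBC.RpushSquareIso f g f' g' w n).hom.app G =
        (K.isoRightDerivedObj (P ⋙ F) n).hom ≫ homologyMap eK n ≫
          (K.isoRightDerivedObj (F' ⋙ pushforward g) n).inv :=
      InjectiveResolution.rightDerived_app_eq _ K n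
    show (Coh.Rpush f n).map η ≫ RDer.edgeIn P F n G ≫ (CohBC.RpushSquareIso f g f' g' w n).hom.app G ≫
      RDer.edgeOut F' (pushforward g) n G = _
    rw [h1, h3, Functor.map_comp, homologyMap_comp, homologyMap_comp]
    simp only [RDer.edgeIn, RDer.edgeOut, Category.assoc, J, K, Iso.inv_hom_id_assoc]
    simp only [HomologicalComplex.homologyFunctor_map, Iso.inv_hom_id_assoc]
    rfl
  rw [key]
  show (homologyMap ((F.mapHomologicalComplex _).map c) n ≫ (I.isoRightDerivedObj F n).inv) ≫ _ =
    psiAdj f g f' g' w M n ≫ (pushforward g).map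
      (homologyMap ((F'.mapHomologicalComplex _).map c') n ≫ (K.isoRightDerivedObj F' n).inv)
  rw [Category.assoc, Iso.inv_hom_id_assoc, ← homologyMap_comp_assoc, Functor.map_comp (pushforward g)]
  unfold psiAdj
  simp only [Category.assoc]
  rw [← reassoc_of% (homologyComparison_natural (pushforward g) ((F'.mapHomologicalComplex _).map c') n),
    ← homologyMap_comp_assoc]
  congr 1
  have hnat : (NatTrans.mapHomologicalComplex e.hom (ComplexShape.up ℕ)).app (gcx G) ≫
      ((pushforward g).mapHomologicalComplex _).map ((F'.mapHomologicalComplex _).map c') =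
      (F.mapHomologicalComplex _).map ((P.mapHomologicalComplex _).map c') ≫ eK :=
    ((NatTrans.mapHomologicalComplex e.hom (ComplexShape.up ℕ)).naturality c').symm
  have h2 : theta f g f' g' w M ≫ ((pushforward g).mapHomologicalComplex _).map ((F'.mapHomologicalComplex _).map c') =
      (F.mapHomologicalComplex _).map (gmap g' η ≫ (P.mapHomologicalComplex _).map c') ≫ eK := by
    unfold theta
    rw [Category.assoc, Functor.map_comp, Category.assoc]
    exact congrArg ((F.mapHomologicalComplex _).map (gmap g' η) ≫ ·) hnat
  rw [h2, ← Category.assoc, ← Functor.map_comp, homologyMap_comp, homologyMap_comp]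
  exact congrArg (· ≫ homologyMap eK n) ((F.mapHomotopy H).homologyMap_eq n)

end Groth.Agent.FlatBCQ
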