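import Groth.Agent.FlatBCQ.GodRes

/-!
# Homology of the direct image of the Godement resolution
-/

set_option autoImplicit false
set_option backward.isDefEq.respectTransparency false
set_option backward.isDefEq.respectTransparency.types false
set_option linter.style.haveILetI false

universe v u v' u'

open CategoryTheory CategoryTheory.Limits AlgebraicGeometry HomologicalComplex

namespace Groth.Agent.FlatBCQ

open Groth.Agent

section Generic

variable {B : Type u} [Category.{v} B] [Abelian B] {C : Type u'} [Category.{v'} C] [Abelian C]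
  (Ψ : B ⥤ C) [Ψ.Additive] [PreservesFiniteLimits Ψ] {ι : Type} {c : ComplexShape ι}

/-- Naturality of the comparison of homology with a left exact functor. -/
theorem homologyComparison_natural {K L : HomologicalComplex B c} (φ : K ⟶ L) (i : ι) :
    homologyMap ((Ψ.mapHomologicalComplex c).map φ) i ≫ RDer.homologyComparison Ψ L i =
      RDer.homologyComparison Ψ K i ≫ Ψ.map (homologyMap φ i) := by
  rw [← cancel_epi (((Ψ.mapHomologicalComplex c).obj K).homologyπ i), homologyπ_naturality_assoc,
    RDer.homologyπ_homologyComparison, RDer.homologyπ_homologyComparison_assoc, ← Ψ.map_comp,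
    homologyπ_naturality, Ψ.map_comp, ← Category.assoc, ← Category.assoc]
  congr 1
  haveI : Mono (Ψ.map (L.iCycles i)) := inferInstance
  rw [← cancel_mono (Ψ.map (L.iCycles i)), Category.assoc, Category.assoc, RDer.cyclesComparison_i,
    cyclesMap_i, ← Ψ.map_comp, cyclesMap_i, Ψ.map_comp, RDer.cyclesComparison_i_assoc]
  rfl

end Generic

variable {X S : Scheme.{u}} (f : X ⟶ S) (M : X.Modules)

theorem preservesFiniteLimits_pushforward : PreservesFiniteLimits (Scheme.Modules.pushforward f) :=
  haveI := (Scheme.Modules.pullbackPushforwardAdjunction f).isRightAdjoint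
  inferInstance

/-- The direct image of the Godement resolution. -/
noncomputable abbrev pcx : CochainComplex S.Modules ℕ :=
  ((Scheme.Modules.pushforward f).mapHomologicalComplex _).obj (gcx M)

theorem toGod_d (n : ℕ) : QCoh.toGod (QCoh.godQ M n) ≫ (gcx M).d n (n + 1) = 0 := by
  rw [gcx_d]
  exact (Category.assoc _ _ _).symm.trans ((congrArg (· ≫ _) (QCoh.toGod_godπ M n)).trans zero_comp)

theorem gcx_exact (n : ℕ) :
    (ShortComplex.mk (QCoh.toGod (QCoh.godQ M n)) ((gcx M).d n (n + 1)) (toGod_d M n)).Exact := by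
  let T := ShortComplex.mk (QCoh.toGod (QCoh.godQ M n)) ((gcx M).d n (n + 1)) (toGod_d M n)
  let ψ : QCoh.godSES M n ⟶ T :=
    { τ₁ := 𝟙 _
      τ₂ := 𝟙 _
      τ₃ := QCoh.toGod (QCoh.godQ M (n + 1))
      comm₁₂ := (Category.id_comp _).trans (Category.comp_id _).symm
      comm₂₃ := (Category.id_comp _).trans (gcx_d M n) }
  haveI : Epi ψ.τ₁ := inferInstanceAs (Epi (𝟙 _))
  haveI : IsIso ψ.τ₂ := inferInstanceAs (IsIso (𝟙 _))
  haveI : Mono ψ.τ₃ := inferInstanceAs (Mono (QCoh.toGod _))
  exact (ShortComplex.exact_iff_of_epi_of_isIso_of_mono ψ).1 (QCoh.godSES_shortExact M n).exact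

theorem push_toGod_d (n : ℕ) :
    (Scheme.Modules.pushforward f).map (QCoh.toGod (QCoh.godQ M n)) ≫ (pcx f M).d n (n + 1) = 0 :=
  ((Scheme.Modules.pushforward f).map_comp _ _).symm.trans
    ((congrArg (Scheme.Modules.pushforward f).map (toGod_d M n)).trans (Functor.map_zero _ _ _))

/-- The cycles of the direct image of the Godement resolution. -/
noncomputable def pcyc (n : ℕ) : (Scheme.Modules.pushforward f).obj (QCoh.godQ M n) ⟶ (pcx f M).cycles n :=
  (pcx f M).liftCycles ((Scheme.Modules.pushforward f).map (QCoh.toGod (QCoh.godQ M n))) (n + 1)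
    (by simp) (push_toGod_d f M n)

theorem pcyc_i (n : ℕ) :
    pcyc f M n ≫ (pcx f M).iCycles n = (Scheme.Modules.pushforward f).map (QCoh.toGod (QCoh.godQ M n)) :=
  liftCycles_i _ _ _ _ _

instance isIso_pcyc (n : ℕ) : IsIso (pcyc f M n) := by
  haveI : PreservesFiniteLimits (Scheme.Modules.pushforward f) := preservesFiniteLimits_pushforward f
  let T := (ShortComplex.mk (QCoh.toGod (QCoh.godQ M n)) ((gcx M).d n (n + 1)) (toGod_d M n)).map
    (Scheme.Modules.pushforward f)
  have hT : T.Exact := (gcx_exact M n).map_of_mono_of_preservesKernel _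
    (inferInstanceAs (Mono (QCoh.toGod (QCoh.godQ M n)))) inferInstance
  haveI : Mono T.f := (Scheme.Modules.pushforward f).map_mono (QCoh.toGod (QCoh.godQ M n))
  haveI : Mono (pcyc f M n) := by
    haveI : Mono (pcyc f M n ≫ (pcx f M).iCycles n) := by rw [pcyc_i]; exact inferInstanceAs (Mono T.f)
    exact mono_of_mono _ ((pcx f M).iCycles n)
  refine ⟨hT.lift ((pcx f M).iCycles n) (iCycles_d _ _ _), ?_, ?_⟩
  · rw [← cancel_mono T.f, Category.assoc, hT.lift_f, Category.id_comp]
    exact pcyc_i f M n
  · rw [← cancel_mono ((pcx f M).iCycles n), Category.assoc, pcyc_i, Category.id_comp]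
    exact hT.lift_f _ _

/-- The projection to the homology. -/
noncomputable def phπ (n : ℕ) : (Scheme.Modules.pushforward f).obj (QCoh.godQ M n) ⟶ (pcx f M).homology n :=
  pcyc f M n ≫ (pcx f M).homologyπ n

instance epi_phπ (n : ℕ) : Epi (phπ f M n) := by
  unfold phπ
  infer_instance

instance isIso_phπ_zero : IsIso (phπ f M 0) := by
  haveI := (pcx f M).isIso_homologyπ 0 0 (by simp) ((pcx f M).shape 0 0 (by simp))
  unfold phπ
  infer_instance

theorem godπ_pcyc (n : ℕ) :
    (Scheme.Modules.pushforward f).map (QCoh.godπ M n) ≫ pcyc f M (n + 1) = (pcx f M).toCycles n (n + 1) := by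
  rw [← cancel_mono ((pcx f M).iCycles (n + 1)), Category.assoc, pcyc_i, toCycles_i]
  exact ((Scheme.Modules.pushforward f).map_comp _ _).symm.trans
    (congrArg (Scheme.Modules.pushforward f).map (gcx_d M n).symm)

theorem godπ_phπ (n : ℕ) :
    (Scheme.Modules.pushforward f).map (QCoh.godπ M n) ≫ phπ f M (n + 1) = 0 :=
  (Category.assoc _ _ _).symm.trans ((congrArg (· ≫ _) (godπ_pcyc f M n)).trans (toCycles_comp_homologyπ _ _ _))

/-- In positive degrees the homology is the cokernel of the model of higher direct images. -/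
theorem exists_modelIso (n : ℕ) :
    ∃ e : QCoh.rpushModel f M n ≅ (pcx f M).homology (n + 1),
      cokernel.π ((Scheme.Modules.pushforward f).map (QCoh.godπ M n)) ≫ e.hom = phπ f M (n + 1) := by
  let a : QCoh.rpushModel f M n ⟶ (pcx f M).homology (n + 1) := cokernel.desc _ _ (godπ_phπ f M n)
  let h := (pcx f M).homologyIsCokernel n (n + 1) (by simp)
  let b : (pcx f M).homology (n + 1) ⟶ QCoh.rpushModel f M n := h.desc (CokernelCofork.ofπ
    (inv (pcyc f M (n + 1)) ≫ cokernel.π ((Scheme.Modules.pushforward f).map (QCoh.godπ M n))) (by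
      rw [← godπ_pcyc, Category.assoc, IsIso.hom_inv_id_assoc, cokernel.condition]))
  have hb : (pcx f M).homologyπ (n + 1) ≫ b = inv (pcyc f M (n + 1)) ≫
      cokernel.π ((Scheme.Modules.pushforward f).map (QCoh.godπ M n)) :=
    h.fac _ WalkingParallelPair.one
  have ha : cokernel.π ((Scheme.Modules.pushforward f).map (QCoh.godπ M n)) ≫ a = phπ f M (n + 1) :=
    cokernel.π_desc _ _ _
  refine ⟨⟨a, b, ?_, ?_⟩, ha⟩
  · rw [← cancel_epi (cokernel.π ((Scheme.Modules.pushforward f).map (QCoh.godπ M n))), reassoc_of% ha]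
    show pcyc f M (n + 1) ≫ (pcx f M).homologyπ (n + 1) ≫ b = _
    rw [hb, IsIso.hom_inv_id_assoc, Category.comp_id]
  · rw [← cancel_epi ((pcx f M).homologyπ (n + 1)), reassoc_of% hb, ha, Category.comp_id]
    exact IsIso.inv_hom_id_assoc _ _

variable [HasInjectiveResolutions X.Modules]

/-- The homology computes the higher direct images. -/
theorem exists_iso_Rpush : ∃ c : gcx M ⟶ (injectiveResolution M).cocomplex,
    (gaug M).f 0 ≫ c.f 0 = (injectiveResolution M).ι.f 0 ∧
      ∀ n, IsIso (homologyMap (((Scheme.Modules.pushforward f).mapHomologicalComplex _).map c) n) := by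
  haveI := SpObjSS.enoughInjectives_of_hasInjectiveResolutions (C := X.Modules)
  haveI := QCoh.preservesFiniteLimits_push f
  let I := injectiveResolution M
  let c := RDer.descToInjectives (𝟙 M) (gcx M) (gaug M) I.cocomplex I.ι
  have hc : (gaug M).f 0 ≫ c.f 0 = I.ι.f 0 :=
    (RDer.ι_descToInjectives_f_zero _ _ _ _ _).trans (Category.id_comp _)
  refine ⟨c, hc, fun n => ?_⟩
  have e : gaug M ≫ c = I.ι := HomologicalComplex.from_single_hom_ext hc
  haveI : QuasiIso (gaug M ≫ c) := by rw [e]; infer_instance
  haveI : QuasiIso c := quasiIso_of_comp_left (gaug M) c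
  haveI := quasiIso_map_of_acyclic (Scheme.Modules.pushforward f) c (isRightAcyclic_gcx f)
    fun k => TriCat.isRightAcyclic_of_injective _
  infer_instance

end Groth.Agent.FlatBCQ
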