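import Groth.Agent.FlatBCQ.Acyclic
import Groth.Agent.QCoh.RpushGod
import Groth.Prelude.Def_RDer

/-!
# The Godement resolution as a complex of modules
-/

set_option autoImplicit false
set_option backward.isDefEq.respectTransparency false
set_option backward.isDefEq.respectTransparency.types false
set_option linter.style.haveILetI false

universe v u

open CategoryTheory CategoryTheory.Limits AlgebraicGeometry HomologicalComplex

namespace Groth.Agent.FlatBCQ

open Groth.Agent

section Homotopy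

variable {A : Type u} [Category.{v} A] [Abelian A] {Y : A} (K : CochainComplex A ℕ)
  (ι : (CochainComplex.single₀ A).obj Y ⟶ K) [QuasiIso ι] (L : CochainComplex A ℕ) [hL : ∀ n, Injective (L.X n)]

/-- Two maps out of a resolution into a complex of injectives which agree on the resolved object are homotopic. -/
theorem nonempty_homotopy (f g : K ⟶ L) (h : ι.f 0 ≫ f.f 0 = ι.f 0 ≫ g.f 0) : Nonempty (Homotopy f g) := by
  suffices H : ∀ φ : K ⟶ L, ι.f 0 ≫ φ.f 0 = 0 → Nonempty (Homotopy φ 0) by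
    obtain ⟨H⟩ := H (f - g) (by simp [h])
    exact ⟨Homotopy.equivSubZero.symm H⟩
  intro φ hφ
  let h₀ : K.X 1 ⟶ L.X 0 := (RDer.res_exact₀ K ι).descToInjective (φ.f 0) hφ
  have e₀ : K.d 0 1 ≫ h₀ = φ.f 0 := (RDer.res_exact₀ K ι).comp_descToInjective _ _
  let h₁ : K.X 2 ⟶ L.X 1 := (RDer.res_exact_succ K ι 0).descToInjective (φ.f 1 - h₀ ≫ L.d 0 1) (by
    show K.d 0 1 ≫ (φ.f 1 - h₀ ≫ L.d 0 1) = 0
    rw [Preadditive.comp_sub, reassoc_of% e₀, φ.comm, sub_self])
  have e₁ : K.d 1 2 ≫ h₁ = φ.f 1 - h₀ ≫ L.d 0 1 := (RDer.res_exact_succ K ι 0).comp_descToInjective _ _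
  refine ⟨Homotopy.mkCoinductive φ h₀ e₀.symm h₁ (by rw [e₁, add_sub_cancel]) fun n ⟨g₀, g₁, w⟩ =>
    ⟨(RDer.res_exact_succ K ι (n + 1)).descToInjective (φ.f (n + 2) - g₁ ≫ L.d (n + 1) (n + 2)) ?_, ?_⟩⟩
  · show K.d (n + 1) (n + 2) ≫ (φ.f (n + 2) - g₁ ≫ L.d (n + 1) (n + 2)) = 0
    rw [Preadditive.comp_sub, ← φ.comm, w, Preadditive.add_comp]
    simp [add_comm]
  · refine Eq.trans ?_ (congrArg (fun t => g₁ ≫ L.d (n + 1) (n + 2) + t)
      ((RDer.res_exact_succ K ι (n + 1)).comp_descToInjective (φ.f (n + 2) - g₁ ≫ L.d (n + 1) (n + 2)) _)).symm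
    simp

end Homotopy

variable {X : Scheme.{u}} (M : X.Modules)

/-- The Godement resolution. -/
noncomputable def gcx : CochainComplex X.Modules ℕ :=
  CochainComplex.of (fun n => QCoh.God (QCoh.godQ M n))
    (fun n => QCoh.godπ M n ≫ QCoh.toGod (QCoh.godQ M (n + 1))) fun n => by
      rw [Category.assoc, ← Category.assoc (QCoh.toGod _) (QCoh.godπ M (n + 1)), QCoh.toGod_godπ, zero_comp,
        comp_zero]

theorem gcx_d (n : ℕ) : (gcx M).d n (n + 1) = QCoh.godπ M n ≫ QCoh.toGod (QCoh.godQ M (n + 1)) :=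
  by simp [gcx]

/-- The augmentation. -/
noncomputable def gaug : (CochainComplex.single₀ _).obj M ⟶ gcx M :=
  (CochainComplex.fromSingle₀Equiv _ _).symm ⟨QCoh.toGod M, by
    rw [gcx_d]
    exact (Category.assoc _ _ _).symm.trans ((congrArg (· ≫ _) (QCoh.toGod_godπ M 0)).trans zero_comp)⟩

theorem gaug_f_zero : (gaug M).f 0 = QCoh.toGod M :=
  CochainComplex.fromSingle₀Equiv_symm_apply_f_zero _ _

theorem gcx_exact_zero :
    (ShortComplex.mk (QCoh.toGod M) ((gcx M).d 0 1) (by
      rw [gcx_d]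
      exact (Category.assoc _ _ _).symm.trans ((congrArg (· ≫ _) (QCoh.toGod_godπ M 0)).trans zero_comp))).Exact := by
  let T : ShortComplex X.Modules := ShortComplex.mk (QCoh.toGod M) ((gcx M).d 0 1) (by
    rw [gcx_d]
    exact (Category.assoc _ _ _).symm.trans ((congrArg (· ≫ _) (QCoh.toGod_godπ M 0)).trans zero_comp))
  let ψ : QCoh.godSES M 0 ⟶ T :=
    { τ₁ := 𝟙 _
      τ₂ := 𝟙 _
      τ₃ := QCoh.toGod (QCoh.godQ M 1)
      comm₁₂ := (Category.id_comp _).trans (Category.comp_id _).symm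
      comm₂₃ := (Category.id_comp _).trans (gcx_d M 0) }
  haveI : Epi ψ.τ₁ := inferInstanceAs (Epi (𝟙 _))
  haveI : IsIso ψ.τ₂ := inferInstanceAs (IsIso (𝟙 _))
  haveI : Mono ψ.τ₃ := inferInstanceAs (Mono (QCoh.toGod _))
  exact (ShortComplex.exact_iff_of_epi_of_isIso_of_mono ψ).1 (QCoh.godSES_shortExact M 0).exact

theorem gcx_exactAt_succ (n : ℕ) : (gcx M).ExactAt (n + 1) := by
  rw [exactAt_iff' _ n (n + 1) (n + 2) (by simp) (by simp)]
  haveI := (QCoh.godSES_shortExact M n).epi_g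
  let T : ShortComplex X.Modules := ShortComplex.mk (QCoh.toGod (QCoh.godQ M (n + 1))) ((gcx M).d (n + 1) (n + 2))
    (by rw [gcx_d]
        exact (Category.assoc _ _ _).symm.trans
          ((congrArg (· ≫ _) (QCoh.toGod_godπ M (n + 1))).trans zero_comp))
  have hT : T.Exact :=
    (ShortComplex.exact_iff_of_epi_of_isIso_of_mono
      (show QCoh.godSES M (n + 1) ⟶ T from { τ₁ := 𝟙 _, τ₂ := 𝟙 _, τ₃ := QCoh.toGod (QCoh.godQ M (n + 2))
                                             comm₁₂ := by simp [T]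
                                             comm₂₃ := by simp [T, gcx_d] })).1
      (QCoh.godSES_shortExact M (n + 1)).exact
  exact (ShortComplex.exact_iff_of_epi_of_isIso_of_mono
    (show (gcx M).sc' n (n + 1) (n + 2) ⟶ T from { τ₁ := QCoh.godπ M n, τ₂ := 𝟙 _, τ₃ := 𝟙 _
                                                   comm₁₂ := by simp [T, gcx_d]
                                                   comm₂₃ := by simp [T] })).2 hT

instance quasiIso_gaug : QuasiIso (gaug M) := ⟨fun n => by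
  cases n
  · rw [CochainComplex.quasiIsoAt₀_iff, ShortComplex.quasiIso_iff_of_zeros]
    · refine (ShortComplex.exact_and_mono_f_iff_of_iso ?_).2
        ⟨gcx_exact_zero M, inferInstanceAs (Mono (QCoh.toGod M))⟩
      exact ShortComplex.isoMk (Iso.refl _) (Iso.refl _) (Iso.refl _) (by simp [gaug_f_zero]) (by simp)
    all_goals rfl
  · rw [quasiIsoAt_iff_exactAt]
    · exact gcx_exactAt_succ M _
    · exact CochainComplex.exactAt_succ_single_obj _ _⟩

variable {M} {X' : Scheme.{u}} (φ : X' ⟶ X) {M' : X'.Modules} (η : M ⟶ (Scheme.Modules.pushforward φ).obj M')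

/-- Functoriality of the Godement resolution. -/
noncomputable def gmap : gcx M ⟶ ((Scheme.Modules.pushforward φ).mapHomologicalComplex _).obj (gcx M') where
  f n := QCoh.godMap φ (QCoh.godQMap φ η n)
  comm' i j hij := by
    obtain rfl : i + 1 = j := hij
    show QCoh.godMap φ (QCoh.godQMap φ η i) ≫ (Scheme.Modules.pushforward φ).map ((gcx M').d i (i + 1)) =
      (gcx M).d i (i + 1) ≫ QCoh.godMap φ (QCoh.godQMap φ η (i + 1))
    rw [gcx_d, gcx_d, Functor.map_comp, ← Category.assoc, ← QCoh.godπ_godQMap, Category.assoc, Category.assoc]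
    exact congrArg (QCoh.godπ M i ≫ ·) (QCoh.toGod_godMap φ _).symm

theorem gmap_aug : (gaug M).f 0 ≫ (gmap φ η).f 0 = η ≫ (Scheme.Modules.pushforward φ).map ((gaug M').f 0) := by
  rw [gaug_f_zero, gaug_f_zero]
  exact QCoh.toGod_godMap φ η

/-- The Godement terms are acyclic for direct images. -/
theorem isRightAcyclic_gcx [HasInjectiveResolutions X.Modules] [EnoughInjectives X.Modules] {Y : Scheme.{u}} (f : X ⟶ Y) (n : ℕ) :
    TriCat.IsRightAcyclic (Scheme.Modules.pushforward f) ((gcx M).X n) := fun i hi => by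
  obtain ⟨j, rfl⟩ := Nat.exists_eq_succ_of_ne_zero hi.ne'
  exact QCoh.isZero_Rpush_of_flasque f _ (QCoh.isFlasqueMod_God _) j

end Groth.Agent.FlatBCQ
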